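import Groth.Agent.FFun.GenModule
import Mathlib.LinearAlgebra.TensorProduct.DirectLimit
import Mathlib.LinearAlgebra.TensorProduct.RightExactness
import Mathlib.RingTheory.TensorProduct.Finite

/-!
# Systems of modules with commuting operators of degree one

A system is a sequence of modules `H n` with commuting maps `T n i : H n → H (n + 1)`; it is the algebra of
`n ↦ Γ(X, F ⊗ L^n)` for sections `s i` of `L`. A localisation in direction `i` is a map to a module `N i` which
makes it the colimit along `T · i`.
-/

set_option autoImplicit false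

universe u

open TensorProduct

noncomputable section

namespace Groth.Agent.HQ47

/-- A sequence of modules with `r` commuting operators of degree one. -/
structure GSys (A : Type u) [CommRing A] (r : ℕ) where
  H : ℕ → Type u
  [acg : ∀ n, AddCommGroup (H n)]
  [mod : ∀ n, Module A (H n)]
  T : ∀ n, Fin r → (H n →ₗ[A] H (n + 1))
  comm : ∀ n i j x, T (n + 1) i (T n j x) = T (n + 1) j (T n i x)

attribute [instance] GSys.acg GSys.mod

namespace GSys

variable {A : Type u} [CommRing A] {r : ℕ} (S : GSys A r)

/-- Generated in degree zero. -/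
def Gen : Prop := ∀ n, ⨆ i, LinearMap.range (S.T n i) = ⊤

/-- Generated in degrees at most `d`. -/
def GenFrom (d : ℕ) : Prop := ∀ n, d ≤ n → ⨆ i, LinearMap.range (S.T n i) = ⊤

/-- Finite in every degree. -/
def Fin' : Prop := ∀ n, Module.Finite A (S.H n)

/-- Iteration of one operator. -/
def up (i : Fin r) (a b : ℕ) (h : a ≤ b) : S.H a →ₗ[A] S.H b :=
  Nat.leRecOn (C := fun m => S.H a →ₗ[A] S.H m) h (fun {k} g => (S.T k i).comp g) LinearMap.id

theorem up_self (i : Fin r) (a : ℕ) (h : a ≤ a) : S.up i a a h = LinearMap.id :=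
  Nat.leRecOn_self _

theorem up_succ (i : Fin r) {a b : ℕ} (h : a ≤ b) (h' : a ≤ b + 1) :
    S.up i a (b + 1) h' = (S.T b i).comp (S.up i a b h) :=
  Nat.leRecOn_succ h _

theorem up_one (i : Fin r) (a : ℕ) (h : a ≤ a + 1) : S.up i a (a + 1) h = S.T a i := by
  rw [S.up_succ i le_rfl h, up_self, LinearMap.comp_id]

theorem up_up (i : Fin r) {a b c : ℕ} (h : a ≤ b) (h' : b ≤ c) (x : S.H a) :
    S.up i b c h' (S.up i a b h x) = S.up i a c (h.trans h') x := by
  induction c, h' using Nat.le_induction with
  | base => rw [up_self]; rfl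
  | succ c hc ih => rw [S.up_succ i hc, S.up_succ i (h.trans hc), LinearMap.comp_apply, ih]; rfl

/-- The operators commute with the iterates. -/
theorem T_up (i j : Fin r) {a b : ℕ} (h : a ≤ b) (x : S.H a) :
    S.T b j (S.up i a b h x) = S.up i (a + 1) (b + 1) (Nat.add_le_add_right h 1) (S.T a j x) := by
  induction b, h using Nat.le_induction with
  | base => rw [up_self, up_self]; rfl
  | succ b hb ih =>
    rw [S.up_succ i hb, LinearMap.comp_apply, S.comm, ih, S.up_succ i (Nat.add_le_add_right hb 1)]
    rfl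

/-- Killed by the `k`-th power of an operator. -/
def Killed (i : Fin r) : ℕ → ∀ n, S.H n → Prop
  | 0, _, x => x = 0
  | k + 1, n, x => Killed i k (n + 1) (S.T n i x)

theorem killed_iff (i : Fin r) : ∀ (k n : ℕ) (x : S.H n),
    S.Killed i k n x ↔ ∀ b (h : n ≤ b), b = n + k → S.up i n b h x = 0 := by
  intro k
  induction k with
  | zero =>
    intro n x
    refine ⟨fun hx b h hb => ?_, fun hx => ?_⟩
    · rw [show x = 0 from hx, map_zero]
    · have := hx n le_rfl rfl
      rwa [up_self] at this
  | succ k ih =>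
    intro n x
    refine (ih (n + 1) _).trans ⟨fun hx b h hb => ?_, fun hx b h hb => ?_⟩
    · have := hx b (by omega) (by omega)
      rw [← S.up_one i n (Nat.le_succ n), up_up] at this
      exact this
    · rw [← S.up_one i n (Nat.le_succ n), up_up]
      exact hx b _ (by omega)

theorem exists_killed_of_up (i : Fin r) {a b : ℕ} (h : a ≤ b) (x : S.H a) (hx : S.up i a b h x = 0) :
    ∃ k, S.Killed i k a x := by
  refine ⟨b - a, (S.killed_iff i _ a x).2 fun c hc e => ?_⟩
  obtain rfl : c = b := by omega
  exact hx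

theorem killed_T (i j : Fin r) : ∀ (k n : ℕ) (x : S.H n), S.Killed i k n x → S.Killed i k (n + 1) (S.T n j x) := by
  intro k
  induction k with
  | zero => intro n x hx; show _ = 0; rw [show x = 0 from hx, map_zero]
  | succ k ih =>
    intro n x hx
    show S.Killed i k (n + 1 + 1) (S.T (n + 1) i (S.T n j x))
    rw [S.comm]
    exact ih _ _ hx

/-- Killed by all words of length `N`. -/
def Dead : ℕ → ∀ n, Submodule A (S.H n)
  | 0, _ => ⊥
  | N + 1, n => ⨅ i, (Dead N (n + 1)).comap (S.T n i)

theorem mem_dead_of_killed : ∀ (N n : ℕ) (x : S.H n) (c : Fin r → ℕ), ∑ i, c i < N →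
    (∀ i, S.Killed i (c i) n x) → x ∈ S.Dead N n := by
  classical
  intro N
  induction N with
  | zero => intro n x c hc; omega
  | succ N ih =>
    intro n x c hc hx
    refine (Submodule.mem_iInf _).2 fun j => Submodule.mem_comap.2 ?_
    rcases Nat.eq_zero_or_pos (c j) with h0 | h0
    · have h := hx j
      rw [h0] at h
      rw [show x = 0 from h, map_zero]
      exact zero_mem _
    · obtain ⟨d, hd⟩ := Nat.exists_eq_add_of_le' (show 1 ≤ c j from h0)
      refine ih (n + 1) _ (Function.update c j d) ?_ fun i => ?_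
      · have h1 := Finset.add_sum_erase Finset.univ c (Finset.mem_univ j)
        have h2 := Finset.add_sum_erase Finset.univ (Function.update c j d) (Finset.mem_univ j)
        have h3 : ∑ i ∈ Finset.univ.erase j, Function.update c j d i = ∑ i ∈ Finset.univ.erase j, c i :=
          Finset.sum_congr rfl fun i hi => Function.update_of_ne (Finset.ne_of_mem_erase hi) _ _
        rw [Function.update_self] at h2
        omega
      · rcases eq_or_ne i j with rfl | hij
        · rw [Function.update_self]
          have h := hx i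
          rw [hd] at h
          exact h
        · rw [Function.update_of_ne hij]
          exact S.killed_T i j _ _ _ (hx i)

/-- A stable family each element of which is killed by powers of every operator vanishes in large degrees. -/
theorem eventually_bot' [IsNoetherianRing A] {d₀ : ℕ} (hg : S.GenFrom d₀) (hf : S.Fin')
    (K : ∀ n, Submodule A (S.H n)) (hK : ∀ n i, ∀ x ∈ K n, S.T n i x ∈ K (n + 1))
    (hkill : ∀ n, ∀ x ∈ K n, ∀ i, ∃ k, S.Killed i k n x) :
    ∃ n₀, ∀ n, n₀ ≤ n → K n = ⊥ := by
  classical
  haveI : ∀ n, Module.Finite A (S.H n) := hf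
  obtain ⟨d, hd⟩ := FFun.Gen.exists_gen_sub S.T S.comm hg K hK
  obtain ⟨k, g, hgen⟩ := Submodule.fg_iff_exists_fin_generating_family.1
    (IsNoetherian.noetherian (K d))
  have hmem : ∀ a : Fin k, g a ∈ K d := fun a => hgen ▸ Submodule.subset_span ⟨a, rfl⟩
  choose c hc using fun (a : Fin k) (i : Fin r) => hkill d (g a) (hmem a) i
  let N₀ := (Finset.univ.sup fun a => ∑ i, c a i) + 1
  have h0 : K d ≤ S.Dead N₀ d := hgen ▸ Submodule.span_le.2 (by
    rintro _ ⟨a, rfl⟩
    exact S.mem_dead_of_killed N₀ d (g a) (c a)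
      (Nat.lt_succ_of_le (Finset.le_sup (f := fun a => ∑ i, c a i) (Finset.mem_univ a))) (hc a))
  have hall : ∀ j, K (d + j) ≤ S.Dead (N₀ - j) (d + j) := by
    intro j
    induction j with
    | zero => exact h0
    | succ j ih =>
      refine (hd (d + j) (Nat.le_add_right d j)).trans (iSup_le fun i => ?_)
      refine (Submodule.map_mono ih).trans ?_
      rcases Nat.eq_zero_or_pos (N₀ - j) with h | h
      · rw [h]
        exact le_of_eq_of_le (Submodule.map_bot _) bot_le
      · rw [show N₀ - j = (N₀ - (j + 1)) + 1 by omega]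
        exact Submodule.map_le_iff_le_comap.2 (iInf_le _ i)
  refine ⟨d + N₀, fun n hn => ?_⟩
  obtain ⟨j, rfl⟩ := Nat.exists_eq_add_of_le (show d ≤ n by omega)
  have h := hall j
  rw [show N₀ - j = 0 by omega] at h
  exact eq_bot_iff.2 h

/-- The same, for a system generated in degree zero. -/
theorem eventually_bot [IsNoetherianRing A] (hg : S.Gen) (hf : S.Fin')
    (K : ∀ n, Submodule A (S.H n)) (hK : ∀ n i, ∀ x ∈ K n, S.T n i x ∈ K (n + 1))
    (hkill : ∀ n, ∀ x ∈ K n, ∀ i, ∃ k, S.Killed i k n x) :
    ∃ n₀, ∀ n, n₀ ≤ n → K n = ⊥ :=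
  S.eventually_bot' (d₀ := 0) (fun n _ => hg n) hf K hK hkill

/-- A localisation in every direction. -/
structure Loc (N : Fin r → Type u) [∀ i, AddCommGroup (N i)] [∀ i, Module A (N i)] where
  π : ∀ i n, S.H n →ₗ[A] N i
  π_T : ∀ i n x, π i (n + 1) (S.T n i x) = π i n x
  surj : ∀ i y, ∃ n x, π i n x = y
  inj : ∀ i n x, π i n x = 0 → ∃ k, S.Killed i k n x

variable {S} {N : Fin r → Type u} [∀ i, AddCommGroup (N i)] [∀ i, Module A (N i)] (P : S.Loc N)

theorem Loc.π_up (i : Fin r) {a b : ℕ} (h : a ≤ b) (x : S.H a) : P.π i b (S.up i a b h x) = P.π i a x := by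
  induction b, h using Nat.le_induction with
  | base => rw [up_self]; rfl
  | succ b hb ih => rw [S.up_succ i hb, LinearMap.comp_apply, P.π_T, ih]

theorem directed (S : GSys A r) (i : Fin r) : DirectedSystem S.H fun a b h => S.up i a b h :=
  ⟨fun a x => by rw [up_self]; rfl, fun _ _ _ h₁ h₂ x => S.up_up i h₁ h₂ x⟩

/-- The map out of the colimit. -/
def Loc.lim (i : Fin r) : Module.DirectLimit S.H (fun a b h => S.up i a b h) →ₗ[A] N i :=
  Module.DirectLimit.lift A ℕ S.H _ (fun n => P.π i n) fun _ _ h x => P.π_up i h x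

theorem Loc.lim_bijective (i : Fin r) : Function.Bijective (P.lim i) := by
  refine ⟨?_, fun y => ?_⟩
  · rw [injective_iff_map_eq_zero]
    intro z hz
    obtain ⟨n, x, rfl⟩ := Module.DirectLimit.exists_of z
    rw [Loc.lim, Module.DirectLimit.lift_of] at hz
    obtain ⟨k, hk⟩ := P.inj i n x hz
    rw [← Module.DirectLimit.of_f (hij := Nat.le_add_right n k), (S.killed_iff i k n x).1 hk _ _ rfl, map_zero]
  · obtain ⟨n, x, rfl⟩ := P.surj i y
    exact ⟨Module.DirectLimit.of A ℕ S.H _ n x, Module.DirectLimit.lift_of _ _ x⟩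

variable (S)

/-- Tensoring a system with a module. -/
def lTens (Q : Type u) [AddCommGroup Q] [Module A Q] : GSys A r where
  H n := Q ⊗[A] S.H n
  T n i := (S.T n i).lTensor Q
  comm n i j x := by
    rw [← LinearMap.comp_apply, ← LinearMap.lTensor_comp, ← LinearMap.comp_apply, ← LinearMap.lTensor_comp]
    congr 2
    exact LinearMap.ext fun z => S.comm n i j z

theorem lTens_up (Q : Type u) [AddCommGroup Q] [Module A Q] (i : Fin r) (a b : ℕ) (h : a ≤ b) :
    (S.lTens Q).up i a b h = (S.up i a b h).lTensor Q := by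
  induction b, h using Nat.le_induction with
  | base => rw [up_self, up_self]; exact (LinearMap.lTensor_id _ _).symm
  | succ b hb ih =>
    rw [up_succ _ i hb, S.up_succ i hb, LinearMap.lTensor_comp, ih]
    rfl

variable {S}

/-- Localisations commute with tensor products. -/
def Loc.lTens (Q : Type u) [AddCommGroup Q] [Module A Q] : (S.lTens Q).Loc (fun i => Q ⊗[A] N i) where
  π i n := (P.π i n).lTensor Q
  π_T i n x := by
    show (P.π i (n + 1)).lTensor Q ((S.T n i).lTensor Q x) = (P.π i n).lTensor Q x
    rw [← LinearMap.comp_apply, ← LinearMap.lTensor_comp]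
    congr 2
    exact LinearMap.ext fun z => P.π_T i n z
  surj i y := by
    induction y using TensorProduct.induction_on with
    | zero => exact ⟨0, 0, map_zero _⟩
    | tmul q y => obtain ⟨n, x, rfl⟩ := P.surj i y; exact ⟨n, q ⊗ₜ x, rfl⟩
    | add y y' hy hy' =>
      obtain ⟨n, x, rfl⟩ := hy
      obtain ⟨n', x', rfl⟩ := hy'
      refine ⟨max n n', (S.up i n _ (le_max_left n n')).lTensor Q x + (S.up i n' _ (le_max_right n n')).lTensor Q x', ?_⟩
      have e : ∀ {a b : ℕ} (h : a ≤ b) (z : Q ⊗[A] S.H a),
          (P.π i b).lTensor Q ((S.up i a b h).lTensor Q z) = (P.π i a).lTensor Q z := fun h z => by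
        rw [← LinearMap.comp_apply, ← LinearMap.lTensor_comp]
        congr 2
        exact LinearMap.ext fun w => P.π_up i h w
      exact (map_add _ _ _).trans (congrArg₂ (· + ·) (e _ x) (e _ x'))
  inj i n x hx := by
    classical
    haveI := directed S i
    let f : ∀ a b, a ≤ b → S.H a →ₗ[A] S.H b := fun a b h => S.up i a b h
    have hcomp : (P.lim i) ∘ₗ Module.DirectLimit.of A ℕ S.H f n = P.π i n :=
      LinearMap.ext fun z => by simp [Loc.lim, f]
    have h1 : ((P.π i n).lTensor Q) x = 0 := hx
    rw [← hcomp, LinearMap.lTensor_comp, LinearMap.comp_apply] at h1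
    have h2 : (Module.DirectLimit.of A ℕ S.H f n).lTensor Q x = 0 :=
      ((LinearEquiv.ofBijective (P.lim i) (P.lim_bijective i)).lTensor Q).injective (h1.trans (map_zero _).symm)
    have h3 : Module.DirectLimit.of A ℕ (fun m => Q ⊗[A] S.H m) (fun a b h => (f a b h).lTensor Q) n x = 0 := by
      refine Eq.trans ?_ ((congrArg (TensorProduct.directLimitRight f Q) h2).trans (map_zero _))
      clear hx h1 h2
      induction x using TensorProduct.induction_on with
      | zero => simp
      | tmul q z => exact (TensorProduct.directLimitRight_tmul_of f Q q z).symm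
      | add a b ha hb => simp only [map_add, ha, hb]
    haveI : DirectedSystem (fun m => Q ⊗[A] S.H m) fun a b h => (f a b h).lTensor Q :=
      ⟨fun a z => by simp [f, up_self], fun _ _ _ h₁ h₂ z => by
        rw [← LinearMap.comp_apply, ← LinearMap.lTensor_comp]
        congr 2
        exact LinearMap.ext fun w => S.up_up i h₁ h₂ w⟩
    obtain ⟨b, hb, hz⟩ := Module.DirectLimit.of.zero_exact h3
    refine (S.lTens Q).exists_killed_of_up i hb x ?_
    rw [lTens_up]
    exact hz

end GSys

end Groth.Agent.HQ47
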