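import Groth.Agent.HQ47.GSysTot
import Mathlib.RingTheory.Spectrum.Prime.FreeLocus
import Mathlib.RingTheory.LocalRing.Module
import Mathlib.RingTheory.Flat.EquationalCriterion
import Mathlib.RingTheory.Flat.Localization
import Mathlib.RingTheory.Ideal.MinimalPrime.Noetherian

/-!
# Flatness of a system in large degrees, uniformly in the base
-/

set_option autoImplicit false
set_option linter.style.haveILetI false

universe u

open TensorProduct

noncomputable section

namespace Groth.Agent.HQ47

namespace GSys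

variable {A : Type u} [CommRing A] {r : ℕ} (S : GSys A r)

/-- Base change of a system. -/
def bc (B : Type u) [CommRing B] [Algebra A B] : GSys B r where
  H n := B ⊗[A] S.H n
  T n i := (S.T n i).baseChange B
  comm n i j x := (S.lTens B).comm n i j x

theorem killed_bc (B : Type u) [CommRing B] [Algebra A B] (i : Fin r) :
    ∀ (k n : ℕ) (x : B ⊗[A] S.H n), (S.bc B).Killed i k n x ↔ (S.lTens B).Killed i k n x := by
  intro k
  induction k with
  | zero => intro n x; rfl
  | succ k ih => intro n x; exact ih _ _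

variable {S}

theorem Gen.lTens (hg : S.Gen) (Q : Type u) [AddCommGroup Q] [Module A Q] : (S.lTens Q).Gen := fun n => by
  refine eq_top_iff.2 fun y _ => ?_
  clear ‹y ∈ (⊤ : Submodule A _)›
  induction y using TensorProduct.induction_on with
  | zero => exact zero_mem _
  | tmul q z =>
    have hz : z ∈ ⨆ i, LinearMap.range (S.T n i) := by rw [hg n]; trivial
    induction hz using Submodule.iSup_induction' with
    | mem i z hz =>
      obtain ⟨w, rfl⟩ := hz
      exact Submodule.mem_iSup_of_mem i ⟨q ⊗ₜ w, rfl⟩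
    | zero => rw [tmul_zero]; exact zero_mem _
    | add a b _ _ ha hb => rw [tmul_add]; exact add_mem ha hb
  | add a b ha hb => exact add_mem ha hb

theorem Gen.bc (hg : S.Gen) (B : Type u) [CommRing B] [Algebra A B] : (S.bc B).Gen := fun n => by
  apply SetLike.ext'
  refine Set.eq_univ_of_forall fun y => ?_
  have hy : y ∈ ⨆ i, LinearMap.range ((S.lTens B).T n i) := by rw [hg.lTens B n]; trivial
  induction hy using Submodule.iSup_induction' with
  | mem i z hz =>
    obtain ⟨w, rfl⟩ := hz
    exact Submodule.mem_iSup_of_mem i ⟨w, rfl⟩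
  | zero => exact zero_mem _
  | add a b _ _ ha hb => exact add_mem ha hb

theorem Fin'.lTens (hf : S.Fin') (Q : Type u) [AddCommGroup Q] [Module A Q] [Module.Finite A Q] :
    (S.lTens Q).Fin' := fun n => by
  haveI := hf n
  exact (inferInstance : Module.Finite A (Q ⊗[A] S.H n))

theorem Fin'.bc (hf : S.Fin') (B : Type u) [CommRing B] [Algebra A B] : (S.bc B).Fin' := fun n => by
  haveI := hf n
  exact (inferInstance : Module.Finite B (B ⊗[A] S.H n))

/-- Localisations commute with base change. -/
def Loc.bc {N : Fin r → Type u} [∀ i, AddCommGroup (N i)] [∀ i, Module A (N i)] (P : S.Loc N)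
    (B : Type u) [CommRing B] [Algebra A B] : (S.bc B).Loc (fun i => B ⊗[A] N i) where
  π i n := (P.π i n).baseChange B
  π_T i n x := (P.lTens B).π_T i n x
  surj i y := (P.lTens B).surj i y
  inj i n x hx := ((P.lTens B).inj i n x hx).imp fun k hk => (S.killed_bc B i k n x).2 hk

variable (S)

/-- The common kernel of the operators. -/
def ker' (n : ℕ) : Submodule A (S.H n) := ⨅ i, LinearMap.ker (S.T n i)

theorem mem_ker' {n : ℕ} {x : S.H n} : x ∈ S.ker' n ↔ ∀ i, S.T n i x = 0 := by
  simp [ker']

/-- All the operators together. -/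
def mu (n : ℕ) : S.H n →ₗ[A] Fin r → S.H (n + 1) := LinearMap.pi (S.T n)

/-- The common kernel vanishes in large degrees. -/
theorem eventually_ker'_eq_bot [IsNoetherianRing A] (hg : S.Gen) (hf : S.Fin') :
    ∃ n₀, ∀ n, n₀ ≤ n → S.ker' n = ⊥ :=
  S.eventually_bot hg hf S.ker' (fun n j x hx => S.mem_ker'.2 fun i => by
      rw [S.comm, S.mem_ker'.1 hx i, map_zero])
    fun n x hx i => ⟨1, S.mem_ker'.1 hx i⟩

/-- The cokernel system. -/
def cok : GSys A r where
  H n := (Fin r → S.H (n + 1)) ⧸ LinearMap.range (S.mu n)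
  T n j := Submodule.mapQ _ _ (LinearMap.pi fun i => (S.T (n + 1) j).comp (LinearMap.proj i)) (by
    rintro _ ⟨x, rfl⟩
    exact ⟨S.T n j x, funext fun i => S.comm n i j x⟩)
  comm n i j x := by
    obtain ⟨v, rfl⟩ := Submodule.mkQ_surjective _ x
    simp only [Submodule.mkQ_apply, Submodule.mapQ_apply]
    congr 1
    funext a
    exact S.comm (n + 1) i j (v a)

theorem gen_cok (hg : S.Gen) : S.cok.Gen := fun n => by
  classical
  rw [eq_top_iff]
  intro y _
  obtain ⟨v, rfl⟩ := Submodule.mkQ_surjective _ y
  rw [show v = ∑ a, Pi.single a (v a) from (Finset.univ_sum_single v).symm, map_sum]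
  refine Submodule.sum_mem _ fun a _ => ?_
  obtain ⟨w₀, hw₀⟩ : ∃ w₀, v a = w₀ := ⟨_, rfl⟩
  have hz : w₀ ∈ ⨆ i, LinearMap.range (S.T (n + 1) i) := by rw [hg (n + 1)]; trivial
  rw [hw₀]
  clear hw₀
  induction hz using Submodule.iSup_induction' with
  | mem i z hz =>
    obtain ⟨w, rfl⟩ := hz
    refine Submodule.mem_iSup_of_mem i ⟨Submodule.Quotient.mk (Pi.single a w), ?_⟩
    refine congrArg (Submodule.Quotient.mk) ?_
    funext b
    rcases eq_or_ne b a with rfl | h
    · simp
    · simp [Pi.single_eq_of_ne h]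
  | zero => rw [Pi.single_zero, map_zero]; exact zero_mem _
  | add p q _ _ hp hq => rw [Pi.single_add, map_add]; exact add_mem hp hq

theorem fin_cok (hf : S.Fin') : S.cok.Fin' := fun n => by
  haveI := hf (n + 1)
  exact (inferInstance : Module.Finite A ((Fin r → S.H (n + 1)) ⧸ LinearMap.range (S.mu n)))

/-- The tensor product with the product of copies. -/
theorem mu_baseChange_piRight (B : Type u) [CommRing B] [Algebra A B] (n : ℕ) (x : B ⊗[A] S.H n) :
    TensorProduct.piRight A B B (fun _ : Fin r => S.H (n + 1)) ((S.mu n).baseChange B x) = (S.bc B).mu n x := by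
  induction x using TensorProduct.induction_on with
  | zero => exact (by simp : _ = (0 : Fin r → B ⊗[A] S.H (n + 1))).trans (map_zero _).symm
  | tmul b x =>
    funext i
    show _ = (S.T n i).baseChange B (b ⊗ₜ x)
    simp [mu]
  | add a b ha hb =>
    rw [map_add, map_add, ha, hb]
    exact (map_add ((S.bc B).mu n) a b).symm

theorem mu_baseChange_injective_iff (B : Type u) [CommRing B] [Algebra A B] (n : ℕ) :
    Function.Injective ((S.mu n).baseChange B) ↔ (S.bc B).ker' n = ⊥ := by
  rw [Submodule.eq_bot_iff, injective_iff_map_eq_zero]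
  have h : ∀ x, (S.mu n).baseChange B x = 0 ↔ x ∈ (S.bc B).ker' n := fun x => by
    refine Iff.trans ?_ (S.bc B).mem_ker'.symm
    rw [← (TensorProduct.piRight A B B (fun _ : Fin r => S.H (n + 1))).map_eq_zero_iff,
      mu_baseChange_piRight]
    exact funext_iff
  exact ⟨fun H x hx => H x ((h x).2 hx), fun H x hx => H x ((h x).1 hx)⟩

/-- Injectivity of the operators descends along base change of algebras. -/
theorem baseChange_baseChange_injective {B K : Type u} [CommRing B] [CommRing K] [Algebra A B] [Algebra A K]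
    [Algebra B K] [IsScalarTower A B K] {M M' : Type u} [AddCommGroup M] [Module A M] [AddCommGroup M']
    [Module A M'] (f : M →ₗ[A] M') :
    Function.Injective (f.baseChange K) ↔ Function.Injective ((f.baseChange B).baseChange K) := by
  let e := TensorProduct.AlgebraTensorModule.cancelBaseChange A B K K M
  let e' := TensorProduct.AlgebraTensorModule.cancelBaseChange A B K K M'
  have hnat : ∀ x, e' ((f.baseChange B).baseChange K x) = f.baseChange K (e x) := fun x => by
    induction x using TensorProduct.induction_on with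
    | zero => simp
    | tmul k y =>
      induction y using TensorProduct.induction_on with
      | zero => simp
      | tmul b m => simp [e, e']
      | add p q hp hq => simp only [tmul_add, map_add, hp, hq]
    | add p q hp hq => simp only [map_add, hp, hq]
  constructor
  · intro h x y hxy
    exact e.injective (h ((hnat x).symm.trans ((congrArg e' hxy).trans (hnat y))))
  · intro h x y hxy
    obtain ⟨x, rfl⟩ := e.surjective x
    obtain ⟨y, rfl⟩ := e.surjective y
    rw [← hnat, ← hnat] at hxy
    exact congrArg e (h (e'.injective hxy))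

/-- A quotient being projective makes an injection split. -/
theorem exists_retraction {B : Type u} [CommRing B] {P Q C : Type u} [AddCommGroup P] [Module B P] [AddCommGroup Q]
    [Module B Q] [AddCommGroup C] [Module B C] (f : P →ₗ[B] Q) (g : Q →ₗ[B] C) (hf : Function.Injective f)
    (hg : Function.Surjective g) (hfg : Function.Exact f g) [Module.Projective B C] :
    ∃ l : Q →ₗ[B] P, l ∘ₗ f = LinearMap.id :=
  ((Function.Exact.split_tfae hfg hf hg).out 0 1).mp (Module.projective_lifting_property g LinearMap.id hg)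

/-- On finitely many pieces covering the base, the operators are injective in large degrees at all fields and
the dimensions are constant. -/
theorem exists_uniform [IsNoetherianRing A] (hg : S.Gen) (hf : S.Fin') :
    ∃ (N : ℕ) (𝓗 : Set (ℕ → ℕ)), 𝓗.Finite ∧ ∀ (K : Type u) [Field K] [Algebra A K],
      (∀ n, N ≤ n → Function.Injective ((S.mu n).baseChange K)) ∧
        (fun n => Module.finrank K (K ⊗[A] S.H n)) ∈ 𝓗 := by
  classical
  haveI : ∀ n, Module.Finite A (S.H n) := hf
  haveI : ∀ n, Module.Finite A (S.cok.H n) := S.fin_cok hf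
  obtain ⟨L₁, hc₁, hL₁⟩ := S.exists_flat_pieces hg hf
  obtain ⟨L₂, hc₂, hL₂⟩ := S.cok.exists_flat_pieces (S.gen_cok hg) (S.fin_cok hf)
  let J := ((L₁ ×ˢ L₂).biUnion fun x =>
    ((Ideal.finite_minimalPrimes_of_isNoetherianRing A (x.1.1 ⊔ x.2.1)).toFinset.filter
      fun p => x.1.2 * x.2.2 ∉ p).image fun p => (x, p))
  have key : ∀ y ∈ J, ∃ (N : ℕ) (h : ℕ → ℕ), ∀ (K : Type u) [Field K] [Algebra A K],
      (∀ a ∈ y.2, algebraMap A K a = 0) → algebraMap A K (y.1.1.2 * y.1.2.2) ≠ 0 →
      (∀ n, N ≤ n → Function.Injective ((S.mu n).baseChange K)) ∧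
        (fun n => Module.finrank K (K ⊗[A] S.H n)) = h := by
    intro y hy
    obtain ⟨x, hx, hy⟩ := Finset.mem_biUnion.1 hy
    obtain ⟨p, hp, rfl⟩ := Finset.mem_image.1 hy
    obtain ⟨hp, hfp⟩ := Finset.mem_filter.1 hp
    rw [Set.Finite.mem_toFinset] at hp
    obtain ⟨hx₁, hx₂⟩ := Finset.mem_product.1 hx
    haveI := hp.1.1
    let f := Ideal.Quotient.mk p (x.1.2 * x.2.2)
    let B := Localization.Away f
    have hf0 : f ≠ 0 := fun h => hfp (Ideal.Quotient.eq_zero_iff_mem.1 h)
    haveI : IsDomain B := IsLocalization.isDomain_of_le_nonZeroDivisors B (M := Submonoid.powers f)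
      (powers_le_nonZeroDivisors_of_noZeroDivisors hf0)
    haveI : IsNoetherianRing B := IsLocalization.isNoetherianRing (Submonoid.powers f) B inferInstance
    have hzero : ∀ a ∈ p, algebraMap A B a = 0 := fun a ha => by
      rw [IsScalarTower.algebraMap_apply A (A ⧸ p) B, Ideal.Quotient.algebraMap_eq,
        Ideal.Quotient.eq_zero_iff_mem.2 ha, map_zero]
    have hunit : IsUnit (algebraMap A B (x.1.2 * x.2.2)) := by
      rw [IsScalarTower.algebraMap_apply A (A ⧸ p) B, Ideal.Quotient.algebraMap_eq]
      exact IsLocalization.Away.algebraMap_isUnit f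
    rw [map_mul, IsUnit.mul_iff] at hunit
    have hS : ∀ n, Module.Flat B (B ⊗[A] S.H n) :=
      hL₁ _ hx₁ B (fun a ha => hzero a (hp.1.2 (Ideal.mem_sup_left ha))) hunit.1
    have hC : ∀ n, Module.Flat B (B ⊗[A] S.cok.H n) :=
      hL₂ _ hx₂ B (fun a ha => hzero a (hp.1.2 (Ideal.mem_sup_right ha))) hunit.2
    obtain ⟨N, hN⟩ := (S.bc B).eventually_ker'_eq_bot (hg.bc B) (hf.bc B)
    refine ⟨N, fun n => Module.rankAtStalk (B ⊗[A] S.H n) ⟨(⊥ : Ideal B), Ideal.isPrime_bot⟩, fun K _ _ h0 h1 => ?_⟩
    let φ₀ : A ⧸ p →+* K := Ideal.Quotient.lift p (algebraMap A K) h0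
    let φ : B →+* K := IsLocalization.Away.lift f (g := φ₀) (Ne.isUnit h1)
    letI := φ.toAlgebra
    haveI : IsScalarTower A B K := IsScalarTower.of_algebraMap_eq fun a => by
      show _ = φ (algebraMap A B a)
      rw [IsScalarTower.algebraMap_apply A (A ⧸ p) B, IsLocalization.Away.lift_eq]
      rfl
    refine ⟨fun n hn => ?_, funext fun n => ?_⟩
    · haveI := hC n
      haveI : Module.Projective B (B ⊗[A] S.cok.H n) := by
        haveI : Module.FinitePresentation B (B ⊗[A] S.cok.H n) := Module.finitePresentation_of_finite _ _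
        exact Module.Flat.projective_of_finitePresentation
      haveI : Module.Projective B (B ⊗[A] ((Fin r → S.H (n + 1)) ⧸ LinearMap.range (S.mu n))) :=
        ‹Module.Projective B (B ⊗[A] S.cok.H n)›
      obtain ⟨l, hl⟩ := exists_retraction ((S.mu n).baseChange B)
        ((Submodule.mkQ (LinearMap.range (S.mu n))).baseChange B)
        ((S.mu_baseChange_injective_iff B n).2 (hN n hn))
        (LinearMap.lTensor_surjective B (Submodule.mkQ_surjective _))
        (lTensor_exact B (LinearMap.exact_map_mkQ_range _) (Submodule.mkQ_surjective _))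
      rw [baseChange_baseChange_injective (B := B)]
      refine Function.HasLeftInverse.injective ⟨l.baseChange K, fun z => ?_⟩
      rw [← LinearMap.comp_apply, ← LinearMap.baseChange_comp, hl, LinearMap.baseChange_id]
      rfl
    · haveI := hS n
      haveI : Module.FinitePresentation B (B ⊗[A] S.H n) := Module.finitePresentation_of_finite _ _
      rw [(TensorProduct.AlgebraTensorModule.cancelBaseChange A B K K (S.H n)).symm.finrank_eq]
      have e := Module.rankAtStalk_baseChange (R := B) (M := B ⊗[A] S.H n) (S := K) ⟨(⊥ : Ideal K), Ideal.isPrime_bot⟩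
      rw [Module.rankAtStalk_eq_finrank_of_free] at e
      refine e.trans ?_
      exact Module.isLocallyConstant_rankAtStalk.apply_eq_of_preconnectedSpace _ _
  choose! N h hh using key
  refine ⟨J.sup N, ↑(J.image h), Finset.finite_toSet _, fun K _ _ => ?_⟩
  let q := RingHom.ker (algebraMap A K)
  haveI hq : q.IsPrime := RingHom.ker_isPrime _
  obtain ⟨x₁, hx₁, hp₁, hf₁⟩ := hc₁ q hq
  obtain ⟨x₂, hx₂, hp₂, hf₂⟩ := hc₂ q hq
  obtain ⟨p, hp, hpq⟩ := Ideal.exists_minimalPrimes_le (J := q) (I := x₁.1 ⊔ x₂.1) (sup_le hp₁ hp₂)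
  have hfq : x₁.2 * x₂.2 ∉ q := fun h => (hq.mem_or_mem h).elim hf₁ hf₂
  have hy : ((x₁, x₂), p) ∈ J := Finset.mem_biUnion.2 ⟨(x₁, x₂), Finset.mem_product.2 ⟨hx₁, hx₂⟩,
    Finset.mem_image.2 ⟨p, Finset.mem_filter.2 ⟨(Set.Finite.mem_toFinset _).2 hp, fun h => hfq (hpq h)⟩, rfl⟩⟩
  obtain ⟨h₁, h₂⟩ := hh _ hy K (fun a ha => hpq ha) hfq
  exact ⟨fun n hn => h₁ n ((Finset.le_sup hy).trans hn), by rw [h₂]; exact Finset.mem_coe.2 (Finset.mem_image_of_mem _ hy)⟩

/-- Over a local base, flatness descends one degree where the operators are injective on the residue field. -/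
theorem flat_of_succ (hf : S.Fin') {B : Type u} [CommRing B] [IsLocalRing B] [Algebra A B] (n : ℕ)
    (hinj : Function.Injective ((S.mu n).baseChange (IsLocalRing.ResidueField B)))
    [Module.Flat B (B ⊗[A] S.H (n + 1))] : Module.Flat B (B ⊗[A] S.H n) := by
  haveI := hf n
  haveI := hf (n + 1)
  haveI : Module.Free B (B ⊗[A] S.H (n + 1)) := Module.free_of_flat_of_isLocalRing
  haveI : Module.Free B (B ⊗[A] (Fin r → S.H (n + 1))) :=
    Module.Free.of_equiv (TensorProduct.piRight A B B (fun _ : Fin r => S.H (n + 1))).symm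
  obtain ⟨l, hl⟩ := (IsLocalRing.split_injective_iff_lTensor_residueField_injective ((S.mu n).baseChange B)).2
    ((baseChange_baseChange_injective (B := B) (S.mu n)).1 hinj)
  exact Module.Flat.of_retract ((S.mu n).baseChange B) l hl

variable {S} {N : Fin r → Type u} [∀ i, AddCommGroup (N i)] [∀ i, Module A (N i)]

/-- The localisations are flat if the system is flat in large degrees. -/
theorem Loc.flat (P : S.Loc N) (n₀ : ℕ) (h : ∀ n, n₀ ≤ n → Module.Flat A (S.H n)) (i : Fin r) :
    Module.Flat A (N i) := by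
  classical
  rw [Module.Flat.iff_forall_isTrivialRelation]
  intro l c x hx
  choose m z hz using fun a => P.surj i (x a)
  let M := n₀ + ∑ a, m a
  have hm : ∀ a, m a ≤ M := fun a =>
    (Finset.single_le_sum (fun b _ => Nat.zero_le (m b)) (Finset.mem_univ a)).trans (Nat.le_add_left _ _)
  let w : Fin l → S.H M := fun a => S.up i (m a) M (hm a) (z a)
  have hw : ∀ a, P.π i M (w a) = x a := fun a => (P.π_up i (hm a) (z a)).trans (hz a)
  have h0 : P.π i M (∑ a, c a • w a) = 0 := by
    simp only [map_sum, map_smul, hw]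
    exact hx
  obtain ⟨k, hk⟩ := P.inj i M _ h0
  have h1 := (S.killed_iff i k M _).1 hk (M + k) (Nat.le_add_right M k) rfl
  simp only [map_sum, map_smul] at h1
  haveI := h (M + k) (by simp only [M]; omega)
  obtain ⟨s, a, y, hay, hca⟩ := Module.Flat.isTrivialRelation_of_sum_smul_eq_zero h1
  refine ⟨s, a, fun j => P.π i _ (y j), fun b => ?_, hca⟩
  rw [← hw b, ← P.π_up i (Nat.le_add_right M k) (w b), show S.up i M (M + k) _ (w b) = _ from hay b]
  simp [map_sum]

/-- Over a Noetherian local base, flat localisations give flatness in large degrees. -/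
theorem Loc.eventually_flat (P : S.Loc N) (hg : S.Gen) (hf : S.Fin') [IsNoetherianRing A] [IsLocalRing A]
    (h : ∀ i, Module.Flat A (N i)) : ∃ n₀, ∀ n, n₀ ≤ n → Module.Flat A (S.H n) := by
  let m := IsLocalRing.maximalIdeal A
  let Q := S.lTens ↥m
  let K : ∀ n, Submodule A (Q.H n) := fun n => LinearMap.ker (m.subtype.rTensor (S.H n))
  have hK : ∀ n i, ∀ x ∈ K n, Q.T n i x ∈ K (n + 1) := fun n i (x : ↥m ⊗[A] S.H n) hx => by
    replace hx : m.subtype.rTensor (S.H n) x = 0 := hx
    show m.subtype.rTensor (S.H (n + 1)) ((S.T n i).lTensor ↥m x) = 0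
    rw [← LinearMap.comp_apply, LinearMap.rTensor_comp_lTensor, ← LinearMap.lTensor_comp_rTensor,
      LinearMap.comp_apply, hx, map_zero]
  have hkill : ∀ n, ∀ x ∈ K n, ∀ i, ∃ k, Q.Killed i k n x := fun n (x : ↥m ⊗[A] S.H n) hx i => by
    replace hx : m.subtype.rTensor (S.H n) x = 0 := hx
    haveI := h i
    refine (P.lTens ↥m).inj i n x ?_
    refine Module.Flat.rTensor_preserves_injective_linearMap (M := N i) m.subtype Subtype.val_injective ?_
    show m.subtype.rTensor (N i) ((P.π i n).lTensor ↥m x) = _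
    rw [← LinearMap.comp_apply, LinearMap.rTensor_comp_lTensor, ← LinearMap.lTensor_comp_rTensor,
      LinearMap.comp_apply, hx, map_zero, map_zero]
  obtain ⟨n₀, hn₀⟩ := Q.eventually_bot (hg.lTens ↥m) (hf.lTens ↥m) K hK hkill
  refine ⟨n₀, fun n hn => ?_⟩
  haveI := hf n
  haveI : Module.FinitePresentation A (S.H n) := Module.finitePresentation_of_finite _ _
  haveI := Module.free_of_maximalIdeal_rTensor_injective (LinearMap.ker_eq_bot.1 (hn₀ n hn))
  infer_instance

variable (S)

/-- Flatness of a base change of a system may be tested after localisation. -/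
theorem flat_of_localizations {B : Type u} [CommRing B] [Algebra A B] {M : Type u} [AddCommGroup M] [Module A M]
    (h : ∀ (P : Ideal B) [P.IsMaximal], Module.Flat (Localization.AtPrime P) (Localization.AtPrime P ⊗[A] M)) :
    Module.Flat B (B ⊗[A] M) := by
  refine Module.flat_of_localized_maximal (B ⊗[A] M) fun P _ => ?_
  haveI := h P
  haveI : Module.Flat B (Localization.AtPrime P ⊗[A] M) := Module.Flat.trans B (Localization.AtPrime P) _
  exact Module.Flat.of_linearEquiv (((LocalizedModule.isBaseChange P.primeCompl (B ⊗[A] M)).equiv).symm.trans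
    (TensorProduct.AlgebraTensorModule.cancelBaseChange A B (Localization.AtPrime P) (Localization.AtPrime P) M)
      |>.restrictScalars B)

variable {S}

/-- The flattening theorem: flat localisations are the same as flatness in all degrees from a bound on that
depends only on the system. -/
theorem Loc.flat_iff (P : S.Loc N) (hg : S.Gen) (hf : S.Fin') {N₀ : ℕ}
    (hN : ∀ (K : Type u) [Field K] [Algebra A K] (n : ℕ), N₀ ≤ n → Function.Injective ((S.mu n).baseChange K))
    (B : Type u) [CommRing B] [Algebra A B] [IsNoetherianRing B] :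
    (∀ i, Module.Flat B (B ⊗[A] N i)) ↔ ∀ n, N₀ ≤ n → Module.Flat B (B ⊗[A] S.H n) := by
  refine ⟨fun h n hn => flat_of_localizations fun Q _ => ?_, fun h i => (P.bc B).flat N₀ h i⟩
  let C := Localization.AtPrime Q
  have hC : ∀ i, Module.Flat C (C ⊗[A] N i) := fun i => by
    haveI := h i
    exact Module.Flat.of_linearEquiv (TensorProduct.AlgebraTensorModule.cancelBaseChange A B C C (N i)).symm
  haveI : IsNoetherianRing C := IsLocalization.isNoetherianRing Q.primeCompl C inferInstance
  obtain ⟨n₀, hn₀⟩ := (P.bc C).eventually_flat (hg.bc C) (hf.bc C) hC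
  suffices ∀ d m, N₀ ≤ m → n₀ ≤ m + d → Module.Flat C (C ⊗[A] S.H m) from this n₀ n hn (by omega)
  intro d
  induction d with
  | zero => exact fun m _ hm => hn₀ m hm
  | succ d ih =>
    intro m hm hd
    haveI := ih (m + 1) (by omega) (by omega)
    exact S.flat_of_succ hf m (hN _ m hm)

end GSys

end Groth.Agent.HQ47
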