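import Groth.Agent.HQ47.GSysFlat

/-!
# A map of systems inducing isomorphisms of the localisations is bijective in large degrees
-/

set_option autoImplicit false

universe u

noncomputable section

namespace Groth.Agent.HQ47

namespace GSys

variable {A : Type u} [CommRing A] {r : ℕ} {S S' : GSys A r}
  (θ : ∀ n, S.H n →ₗ[A] S'.H n) (hθ : ∀ n i x, θ (n + 1) (S.T n i x) = S'.T n i (θ n x))

include hθ in
theorem map_up (i : Fin r) {a b : ℕ} (h : a ≤ b) (x : S.H a) :
    θ b (S.up i a b h x) = S'.up i a b h (θ a x) := by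
  induction b, h using Nat.le_induction with
  | base => rw [up_self, up_self]; rfl
  | succ b hb ih => rw [S.up_succ i hb, S'.up_succ i hb, LinearMap.comp_apply, LinearMap.comp_apply, hθ, ih]

include hθ in
/-- A map of systems inducing isomorphisms of the localisations is bijective in large degrees. -/
theorem eventually_bijective [IsNoetherianRing A] {d d' : ℕ} (hg : S.GenFrom d) (hf : S.Fin')
    (hg' : S'.GenFrom d') (hf' : S'.Fin') {N N' : Fin r → Type u} [∀ i, AddCommGroup (N i)] [∀ i, Module A (N i)]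
    [∀ i, AddCommGroup (N' i)] [∀ i, Module A (N' i)] (P : S.Loc N) (P' : S'.Loc N') (ψ : ∀ i, N i →ₗ[A] N' i)
    (hψ : ∀ i, Function.Bijective (ψ i)) (hc : ∀ i n x, P'.π i n (θ n x) = ψ i (P.π i n x)) :
    ∃ n₀, ∀ n, n₀ ≤ n → Function.Bijective (θ n) := by
  obtain ⟨n₁, h₁⟩ := S.eventually_bot' hg hf (fun n => LinearMap.ker (θ n))
    (fun n i x hx => by
      rw [LinearMap.mem_ker] at hx ⊢
      rw [hθ, hx, map_zero])
    (fun n x hx i => P.inj i n x ((hψ i).1 (by
      rw [← hc, LinearMap.mem_ker.1 hx, map_zero, map_zero])))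
  let Q : GSys A r :=
    { H := fun n => S'.H n ⧸ LinearMap.range (θ n)
      T := fun n i => Submodule.mapQ _ _ (S'.T n i) (by
        rintro _ ⟨x, rfl⟩
        exact ⟨S.T n i x, hθ n i x⟩)
      comm := fun n i j x => by
        obtain ⟨v, rfl⟩ := Submodule.mkQ_surjective _ x
        exact congrArg Submodule.Quotient.mk (S'.comm n i j v) }
  have hmk : ∀ (i : Fin r) {a b : ℕ} (h : a ≤ b) (x : S'.H a),
      Q.up i a b h (Submodule.Quotient.mk x) = Submodule.Quotient.mk (S'.up i a b h x) := fun i a b h x =>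
    (map_up (S := S') (S' := Q) (fun n => Submodule.mkQ _) (fun n i x => rfl) i h x).symm
  have hgQ : Q.GenFrom d' := fun n hn => by
    refine eq_top_iff.2 fun y _ => ?_
    obtain ⟨v, rfl⟩ := Submodule.mkQ_surjective _ y
    have hv : v ∈ ⨆ i, LinearMap.range (S'.T n i) := by rw [hg' n hn]; trivial
    refine Submodule.iSup_induction (motive := fun v =>
      Submodule.mkQ (LinearMap.range (θ (n + 1))) v ∈ ⨆ i, LinearMap.range (Q.T n i)) _ hv ?_ ?_ ?_
    · rintro i _ ⟨w, rfl⟩
      exact Submodule.mem_iSup_of_mem i ⟨Submodule.Quotient.mk w, rfl⟩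
    · rw [map_zero]
      exact zero_mem _
    · intro a b ha hb
      rw [map_add]
      exact add_mem ha hb
  have hfQ : Q.Fin' := fun n => by
    haveI := hf' n
    exact (inferInstance : Module.Finite A (S'.H n ⧸ LinearMap.range (θ n)))
  have hkill : ∀ n, ∀ y ∈ (⊤ : Submodule A (Q.H n)), ∀ i, ∃ k, Q.Killed i k n y := fun n y _ i => by
    obtain ⟨v, rfl⟩ := Submodule.mkQ_surjective _ y
    obtain ⟨w, hw⟩ := (hψ i).2 (P'.π i n v)
    obtain ⟨j, x, rfl⟩ := P.surj i w
    let L := max n j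
    have h0 : P'.π i L (S'.up i n L (le_max_left n j) v - θ L (S.up i j L (le_max_right n j) x)) = 0 := by
      rw [map_sub, P'.π_up, hc, P.π_up, hw, sub_self]
    obtain ⟨k, hk⟩ := P'.inj i L _ h0
    have hk' := (S'.killed_iff i k L _).1 hk (L + k) (Nat.le_add_right _ _) rfl
    rw [map_sub, up_up, sub_eq_zero] at hk'
    refine Q.exists_killed_of_up i (le_trans (le_max_left n j) (Nat.le_add_right L k)) _ ?_
    refine (hmk i _ v).trans ((Submodule.Quotient.mk_eq_zero _).2 ?_)
    rw [hk']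
    exact ⟨S.up i L (L + k) (Nat.le_add_right _ _) (S.up i j L (le_max_right n j) x), map_up θ hθ i _ _⟩
  obtain ⟨n₂, h₂⟩ := Q.eventually_bot' hgQ hfQ (fun n => ⊤) (fun _ _ _ _ => trivial) hkill
  refine ⟨max n₁ n₂, fun n hn => ⟨LinearMap.ker_eq_bot.1 (h₁ n (le_of_max_le_left hn)), fun y => ?_⟩⟩
  have h : (Submodule.Quotient.mk y : Q.H n) ∈ (⊤ : Submodule A (Q.H n)) := trivial
  rw [h₂ n (le_of_max_le_right hn), Submodule.mem_bot] at h
  exact (Submodule.Quotient.mk_eq_zero _).1 h

end GSys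

end Groth.Agent.HQ47
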