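import Groth.Agent.HQ47.GSys
import Groth.Agent.FlatStrat.Alg

/-!
# The total module of a system, and pieces of the base on which a system is flat
-/

set_option autoImplicit false

universe u

open TensorProduct MvPolynomial

noncomputable section

namespace Groth.Agent.HQ47

open FFun.Gen

namespace GSys

variable {A : Type u} [CommRing A] {r : ℕ} (S : GSys A r)

/-- Combinations of monomials applied to elements of degree zero. -/
def Ψ (n : ℕ) : (Sym (Fin r) n → S.H 0) →ₗ[A] S.H n :=
  ∑ s, (word S.T n s).comp (LinearMap.proj s)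

theorem Ψ_single (n : ℕ) (s : Sym (Fin r) n) (x : S.H 0) : S.Ψ n (Pi.single s x) = word S.T n s x := by
  classical
  simp only [Ψ, LinearMap.sum_apply, LinearMap.comp_apply, LinearMap.proj_apply]
  rw [Finset.sum_eq_single s]
  · rw [Pi.single_eq_same]
  · intro b _ hb
    rw [Pi.single_eq_of_ne hb, map_zero]
  · simp

theorem Ψ_shift (n : ℕ) (i : Fin r) (v : Sym (Fin r) n → S.H 0) :
    S.Ψ (n + 1) (shift A n i v) = S.T n i (S.Ψ n v) := by
  classical
  refine LinearMap.congr_fun (f := (S.Ψ (n + 1)).comp (shift A n i)) (g := (S.T n i).comp (S.Ψ n))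
    (LinearMap.pi_ext fun s x => ?_) v
  rw [LinearMap.comp_apply, LinearMap.comp_apply, shift_single, Ψ_single, Ψ_single, word_cons S.T S.comm]

theorem Ψ_surjective (hg : S.Gen) : ∀ n, Function.Surjective (S.Ψ n) := by
  classical
  intro n
  induction n with
  | zero => exact fun x => ⟨Pi.single Sym.nil x, (S.Ψ_single 0 _ x).trans rfl⟩
  | succ n ih =>
    intro x
    refine (iSup_le fun i => ?_ : ⨆ i, LinearMap.range (S.T n i) ≤ LinearMap.range (S.Ψ (n + 1)))
      ((hg n).ge Submodule.mem_top)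
    rintro _ ⟨y, rfl⟩
    obtain ⟨v, rfl⟩ := ih y
    exact ⟨shift A n i v, S.Ψ_shift n i v⟩

/-- The relations. -/
def relMod : Submodule (MvPolynomial (Fin r) A) (MvPolynomial (Fin r) A ⊗[A] S.H 0) :=
  Submodule.span _ (⋃ k, emb A k '' (LinearMap.ker (S.Ψ k) : Set _))

theorem Ψ_comp'_smul_emb (n : ℕ) (p : MvPolynomial (Fin r) A) :
    ∀ (k : ℕ) (v : Sym (Fin r) k → S.H 0), S.Ψ k v = 0 → S.Ψ n (comp' A n (p • emb A k v)) = 0 := by
  induction p using MvPolynomial.induction_on with
  | C c =>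
    intro k v hv
    rw [smul_emb_eq, map_smul, map_smul]
    rcases eq_or_ne k n with rfl | hk
    · rw [comp'_emb, hv, smul_zero]
    · rw [comp'_emb_ne hk, map_zero, smul_zero]
  | add p q hp hq =>
    intro k v hv
    rw [add_smul, map_add, map_add, hp k v hv, hq k v hv, add_zero]
  | mul_X p i hp =>
    intro k v hv
    rw [mul_smul, X_smul_emb]
    exact hp (k + 1) _ (by rw [Ψ_shift, hv, map_zero])

theorem Ψ_comp'_of_mem (n : ℕ) {m : MvPolynomial (Fin r) A ⊗[A] S.H 0} (hm : m ∈ S.relMod) :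
    S.Ψ n (comp' A n m) = 0 := by
  let P := MvPolynomial (Fin r) A
  let T : Submodule P (P ⊗[A] S.H 0) :=
    { carrier := {m | ∀ p : P, S.Ψ n (comp' A n (p • m)) = 0}
      zero_mem' := fun p => by rw [smul_zero, map_zero, map_zero]
      add_mem' := fun {a b} ha hb p => by rw [smul_add, map_add, map_add, ha p, hb p, add_zero]
      smul_mem' := fun c m hm p => by rw [← mul_smul]; exact hm _ }
  have h : S.relMod ≤ T := Submodule.span_le.2 fun m hm => by
    obtain ⟨k, v, hv, rfl⟩ := Set.mem_iUnion.1 hm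
    exact fun p => S.Ψ_comp'_smul_emb n p k v hv
  simpa using h hm 1

/-- The total module. -/
abbrev Tot : Type u := (MvPolynomial (Fin r) A ⊗[A] S.H 0) ⧸ S.relMod

/-- The projection to one degree. -/
def prTot (n : ℕ) : S.Tot →ₗ[A] S.H n :=
  (Submodule.liftQ (S.relMod.restrictScalars A) ((S.Ψ n).comp (comp' A n)) fun _ hm => S.Ψ_comp'_of_mem n hm).comp
    (Submodule.Quotient.restrictScalarsEquiv A S.relMod).symm.toLinearMap

theorem prTot_mk (n : ℕ) (m : MvPolynomial (Fin r) A ⊗[A] S.H 0) :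
    S.prTot n (Submodule.Quotient.mk m) = S.Ψ n (comp' A n m) := by
  rw [prTot, LinearMap.comp_apply]
  erw [Submodule.Quotient.restrictScalarsEquiv_symm_mk]
  rfl

/-- The inclusion of one degree. -/
def incTot (hg : S.Gen) (n : ℕ) : S.H n →ₗ[A] S.Tot :=
  (Submodule.liftQ (LinearMap.ker (S.Ψ n))
      (((Submodule.mkQ S.relMod).restrictScalars A).comp (emb A n)) fun v hv => by
        rw [LinearMap.mem_ker, LinearMap.comp_apply]
        exact (Submodule.Quotient.mk_eq_zero _).2 (Submodule.subset_span (Set.mem_iUnion.2 ⟨n, v, hv, rfl⟩))).comp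
    ((S.Ψ n).quotKerEquivOfSurjective (S.Ψ_surjective hg n)).symm.toLinearMap

theorem prTot_incTot (hg : S.Gen) (n : ℕ) : (S.prTot n).comp (S.incTot hg n) = LinearMap.id := by
  refine LinearMap.ext fun x => ?_
  obtain ⟨v, rfl⟩ := S.Ψ_surjective hg n x
  show S.prTot n (S.incTot hg n _) = _
  have e : ((S.Ψ n).quotKerEquivOfSurjective (S.Ψ_surjective hg n)).symm (S.Ψ n v) = Submodule.Quotient.mk v :=
    (LinearEquiv.symm_apply_eq _).2 rfl
  rw [incTot, LinearMap.comp_apply, LinearEquiv.coe_coe, e, Submodule.liftQ_apply, LinearMap.comp_apply]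
  exact (S.prTot_mk n _).trans (congrArg _ (comp'_emb n v))

/-- Pieces of the base over which all degrees are flat, after any base change. -/
theorem exists_flat_pieces [IsNoetherianRing A] (hg : S.Gen) (hf : S.Fin') :
    ∃ L : Finset (Ideal A × A), (∀ q : Ideal A, q.IsPrime → ∃ x ∈ L, x.1 ≤ q ∧ x.2 ∉ q) ∧
      ∀ x ∈ L, ∀ (B : Type u) [CommRing B] [Algebra A B], (∀ a ∈ x.1, algebraMap A B a = 0) →
        IsUnit (algebraMap A B x.2) → ∀ n, Module.Flat B (B ⊗[A] S.H n) := by
  haveI : Module.Finite A (S.H 0) := hf 0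
  haveI : Module.Finite (MvPolynomial (Fin r) A) (MvPolynomial (Fin r) A ⊗[A] S.H 0) := inferInstance
  haveI : Module.FinitePresentation (MvPolynomial (Fin r) A) S.Tot := Module.finitePresentation_of_finite _ _
  obtain ⟨L, hL, hcov⟩ := FlatStrat.exists_triv_cover (R := A) (S := MvPolynomial (Fin r) A) S.Tot
  refine ⟨L, hcov, fun x hx B _ _ h0 h1 n => ?_⟩
  haveI := (hL x hx).2 B h0 h1
  exact Module.Flat.of_retract ((S.incTot hg n).baseChange B) ((S.prTot n).baseChange B) (by
    rw [← LinearMap.baseChange_comp, prTot_incTot, LinearMap.baseChange_id])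

end GSys

end Groth.Agent.HQ47
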