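import Groth.Agent.HQ47.GSysMor
import Groth.Agent.AmpleVan.Vanish
import Groth.Agent.HilbPoly.Pos
import Groth.Agent.QCoh.GodHH

/-!
# The system of sections of the twists of a module

For a proper scheme `X` over an affine Noetherian base, an invertible module `L` with sections `s k` whose
generating loci `D k` form an affine cover, and a coherent module `F`, the sections of `F ⊗ L^n` form a system
with the `Γ(F, D k)` as localisations.
-/

set_option autoImplicit false
set_option linter.style.haveILetI false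
set_option backward.isDefEq.respectTransparency false
set_option backward.isDefEq.respectTransparency.types false

universe u

open CategoryTheory CategoryTheory.Limits AlgebraicGeometry TopologicalSpace Opposite

noncomputable section

namespace Groth.Agent.HQ47

open Groth.Agent AmpleVan
open Groth.Agent.PnCoh.Finite (mapLin)

variable {A : Type u} [CommRing A] {X : Scheme.{u}} [X.Over (Spec (CommRingCat.of A))]

variable (A) in
/-- The scalars acting on sections over an open. -/
abbrev ρA (X : Scheme.{u}) [X.Over (Spec (CommRingCat.of A))] : A →+* Coh.Γtop X :=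
  Coh.toGlobal (X ↘ Spec (CommRingCat.of A))

variable (A) in
/-- Sections over an open, as modules over the base ring. -/
@[reducible] def secMod (M : X.Modules) (U : X.Opens) : Module A Γ(M, U) :=
  QCoh.secModule (ρA A X) M U

variable (A) in
/-- A morphism on sections, linearly. -/
def appA {M N : X.Modules} (φ : M ⟶ N) (U : X.Opens) :
    letI := secMod A M U
    letI := secMod A N U
    Γ(M, U) →ₗ[A] Γ(N, U) :=
  letI := secMod A M U
  letI := secMod A N U
  { toFun := φ.app U
    map_add' := map_add _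
    map_smul' := fun a x => Scheme.Modules.Hom.app_smul φ _ x }

variable (A) in
/-- Restriction, linearly. -/
def resA (M : X.Modules) {U V : X.Opens} (h : V ≤ U) :
    letI := secMod A M U
    letI := secMod A M V
    Γ(M, U) →ₗ[A] Γ(M, V) :=
  letI := secMod A M U
  letI := secMod A M V
  { toFun := AModX.res M h
    map_add' := map_add _
    map_smul' := fun a x => by
      refine (AModX.res_smul h _ x).trans ?_
      congr 1
      exact congr($((X.presheaf.map_comp (homOfLE le_top).op (homOfLE h).op).symm) (ρA A X a)) }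

variable {L : X.Modules}

theorem mulSec_eq_mulHom (s : Coh.structureModule X ⟶ L) (M : X.Modules) :
    mulSec (InvX.one s) M = HilbPoly.mulHom s M := by
  refine QCoh.hom_ext_app fun U t => ?_
  rw [mulSec_app]
  show InvX.tmul t _ = (((DCoh.tensorBi (X := X)).obj M).map s).app U ((twUnit.inv.app M).app U t)
  rw [unit_inv_app]
  have h := KFlatLib.tmSh_naturality_right M s (U := U) t (show Γ(Coh.structureModule X, U) from (1 : Γ(X, U)))
  refine Eq.trans ?_ h.symm
  refine congrArg (InvX.tmul t) ?_
  refine Eq.trans ?_ (congrArg (s.app U) (map_one (AModX.resR (le_top : U ≤ ⊤))))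
  exact (AModX.app_res s (le_top : U ≤ ⊤) _).symm

/-- Multiplication by a section is bijective on sections inside its generating locus. -/
theorem mulSec_app_bijective (s : Coh.structureModule X ⟶ L) (M : X.Modules) {W : X.Opens}
    (hW : W ≤ CohB1.genLocus L s) : Function.Bijective ((mulSec (InvX.one s) M).app W) := by
  obtain ⟨W', rfl⟩ : ∃ W', (CohB1.genLocus L s).ι ''ᵁ W' = W :=
    ⟨(CohB1.genLocus L s).ι ⁻¹ᵁ W, by
      rw [Scheme.Hom.image_preimage_eq_opensRange_inf, Scheme.Opens.opensRange_ι]
      exact inf_eq_right.mpr hW⟩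
  haveI : IsIso ((Scheme.Modules.restrictFunctor (CohB1.genLocus L s).ι).map s) :=
    (InvX.isIso_restrict_iff s _).2 (AmpleX.res_genLocus_frame s)
  haveI := HilbPoly.isIso_restrict_mulHom s M (U := CohB1.genLocus L s)
  rw [mulSec_eq_mulHom]
  exact (ConcreteCategory.isIso_iff_bijective
    (((Scheme.Modules.restrictFunctor (CohB1.genLocus L s).ι).map (HilbPoly.mulHom s M)).app W')).1
      (Scheme.Modules.Hom.isIso_iff_isIso_app.1 inferInstance W')

theorem pw_app_bijective (s : Coh.structureModule X ⟶ L) (M : X.Modules) {W : X.Opens}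
    (hW : W ≤ CohB1.genLocus L s) : ∀ n, Function.Bijective (((pw (InvX.one s) n).app M).app W)
  | 0 => Function.bijective_id
  | n + 1 => by
    rw [pw_succ]
    exact (mulSec_app_bijective s _ hW).comp (pw_app_bijective s M hW n)

/-- The data of the sections: a polarisation by sections with affine generating loci. -/
structure Pol (X : Scheme.{u}) (r : ℕ) where
  L : X.Modules
  hL : PicF.IsInvertible L
  s : Fin r → (Coh.structureModule X ⟶ L)
  haff : ∀ k, IsAffineOpen (CohB1.genLocus L (s k))
  hcov : ∀ x : X, ∃ k, x ∈ CohB1.genLocus L (s k)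

variable {r : ℕ} (P : Pol X r) (F : X.Modules)

/-- The loci. -/
abbrev Pol.D (k : Fin r) : X.Opens := CohB1.genLocus P.L (P.s k)

/-- The sections of the twists, from degree `e` on. -/
def gsys (A : Type u) [CommRing A] [X.Over (Spec (CommRingCat.of A))] (e : ℕ) : GSys A r where
  H n := Γ((itw P.L (e + n)).obj F, ⊤)
  mod n := secMod A _ _
  T n k := appA A (mulSec (InvX.one (P.s k)) ((itw P.L (e + n)).obj F)) ⊤
  comm n i j x := by
    have h := (twSys P.hL (fun k => InvX.one (P.s k)) F).comm (e + n) i j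
    exact congr(($h).app ⊤ x)

/-- `pw` on a locus, linearly. -/
def pwEquiv (A : Type u) [CommRing A] [X.Over (Spec (CommRingCat.of A))] (k : Fin r) (n : ℕ) :
    letI := secMod A F (P.D k)
    letI := secMod A ((itw P.L n).obj F) (P.D k)
    Γ(F, P.D k) ≃ₗ[A] Γ((itw P.L n).obj F, P.D k) :=
  letI := secMod A F (P.D k)
  letI := secMod A ((itw P.L n).obj F) (P.D k)
  LinearEquiv.ofBijective (appA A ((pw (InvX.one (P.s k)) n).app F) (P.D k))
    (pw_app_bijective (P.s k) F le_rfl n)

/-- The localisation maps. -/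
def locπ (A : Type u) [CommRing A] [X.Over (Spec (CommRingCat.of A))] (e : ℕ) (k : Fin r) (n : ℕ) :
    letI := secMod A F (P.D k)
    (gsys P F A e).H n →ₗ[A] Γ(F, P.D k) :=
  letI := secMod A F (P.D k)
  letI := secMod A ((itw P.L (e + n)).obj F) (P.D k)
  letI := secMod A ((itw P.L (e + n)).obj F) ⊤
  (pwEquiv P F A k (e + n)).symm.toLinearMap.comp (resA A _ (le_top : P.D k ≤ ⊤))

variable {P F}

theorem pw_locπ (e : ℕ) (k : Fin r) (n : ℕ) (x : (gsys P F A e).H n) :
    ((pw (InvX.one (P.s k)) (e + n)).app F).app (P.D k) (locπ P F A e k n x) =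
      AModX.res ((itw P.L (e + n)).obj F) (le_top : P.D k ≤ ⊤) x := by
  letI := secMod A F (P.D k)
  letI := secMod A ((itw P.L (e + n)).obj F) (P.D k)
  exact (pwEquiv P F A k (e + n)).apply_symm_apply _

theorem killed_of_pw (e : ℕ) (k : Fin r) : ∀ (c n : ℕ) (x : (gsys P F A e).H n),
    ((pw (InvX.one (P.s k)) c).app ((itw P.L (e + n)).obj F)).app ⊤ x = 0 → (gsys P F A e).Killed k c n x := by
  intro c
  induction c with
  | zero => intro n x hx; exact hx
  | succ c ih =>
    intro n x hx
    refine ih (n + 1) _ ?_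
    let N := (itw P.L (e + n)).obj F
    let σ := InvX.one (P.s k)
    obtain ⟨ψ, hψ⟩ := exists_itw_mulSec P.hL σ N c
    have e1 : mulSec σ N ≫ (pw σ c).app ((tw P.L).obj N) = (pw σ (c + 1)).app N ≫ ψ.inv :=
      ((pw σ c).naturality (mulSec σ N)).trans
        ((congrArg ((pw σ c).app N ≫ ·) ((Iso.eq_comp_inv ψ).2 hψ)).trans (Category.assoc _ _ _).symm)
    exact (congr(($e1).app ⊤ x) : _).trans ((congrArg (ψ.inv.app ⊤) hx).trans (map_zero _))

variable (P F)

/-- The localisations of the system of sections. -/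
def gloc (A : Type u) [CommRing A] [X.Over (Spec (CommRingCat.of A))] [CompactSpace X] [QuasiSeparatedSpace X]
    (hF : Coh.IsQCoh F) (e : ℕ) :
    letI := fun k => secMod A F (P.D k)
    (gsys P F A e).Loc (fun k => Γ(F, P.D k)) :=
  letI := fun k => secMod A F (P.D k)
  { π := fun k n => locπ P F A e k n
    π_T := fun k n x => by
      apply (pw_app_bijective (P.s k) F le_rfl (e + n + 1)).1
      refine (pw_locπ e k (n + 1) _).trans ?_
      rw [pw_succ]
      show _ = (mulSec (InvX.one (P.s k)) ((itw P.L (e + n)).obj F)).app (P.D k)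
        (((pw (InvX.one (P.s k)) (e + n)).app F).app (P.D k) (locπ P F A e k n x))
      rw [pw_locπ]
      exact (AModX.app_res (mulSec (InvX.one (P.s k)) ((itw P.L (e + n)).obj F)) le_top x).symm
    surj := fun k t => by
      obtain ⟨n₀, T, hT⟩ := exists_extend hF P.hL (P.s k) t
      have h : ∀ d, ∃ T : Γ((itw P.L (n₀ + d)).obj F, ⊤),
          AModX.res _ (le_top : P.D k ≤ ⊤) T = ((pw (InvX.one (P.s k)) (n₀ + d)).app F).app _ t := fun d => by
        induction d with
        | zero => exact ⟨T, hT⟩
        | succ d ih =>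
          obtain ⟨T', hT'⟩ := ih
          refine ⟨(mulSec (InvX.one (P.s k)) ((itw P.L (n₀ + d)).obj F)).app ⊤ T', ?_⟩
          refine (AModX.app_res (mulSec (InvX.one (P.s k)) ((itw P.L (n₀ + d)).obj F)) le_top T').symm.trans ?_
          rw [hT']
          rfl
      obtain ⟨T', hT'⟩ := h e
      have key : ∀ m (hm : n₀ + e = m), ∃ T : Γ((itw P.L m).obj F, ⊤),
          AModX.res _ (le_top : P.D k ≤ ⊤) T = ((pw (InvX.one (P.s k)) m).app F).app _ t := by
        rintro _ rfl
        exact ⟨T', hT'⟩
      obtain ⟨T'', hT''⟩ := key (e + n₀) (Nat.add_comm _ _)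
      refine ⟨n₀, T'', (pw_app_bijective (P.s k) F le_rfl (e + n₀)).1 ?_⟩
      exact (pw_locπ e k n₀ T'').trans hT''
    inj := fun k n x hx => by
      have h : AModX.res ((itw P.L (e + n)).obj F) (le_top : P.D k ≤ ⊤) x = 0 := by
        rw [← pw_locπ e k n x, hx, map_zero]
      obtain ⟨c, hc⟩ := exists_killed (isQCoh_itw P.hL hF (e + n)) P.hL (P.s k) x h
      exact ⟨c, killed_of_pw e k c n x hc⟩ }

theorem fin_gsys [IsNoetherianRing A] [IsProper (X ↘ Spec (CommRingCat.of A))] (hF : Coh.IsCoh F) (e : ℕ) :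
    (gsys P F A e).Fin' := fun n => by
  haveI : IsLocallyNoetherian X := LocallyOfFiniteType.isLocallyNoetherian (X ↘ Spec (CommRingCat.of A))
  letI := secMod A ((itw P.L (e + n)).obj F) ⊤
  haveI := Groth.Agent.S0002.result A X ((itw P.L (e + n)).obj F) (isCoh_itw P.hL hF (e + n)) 0
  exact Module.Finite.equiv (QCoh.secH (ρA A X) ((itw P.L (e + n)).obj F)).symm

/-- The sections are generated from some degree on. -/
theorem exists_gen_gsys (A : Type u) [CommRing A] [X.Over (Spec (CommRingCat.of A))] [IsNoetherianRing A]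
    [IsProper (X ↘ Spec (CommRingCat.of A))] (hF : Coh.IsCoh F) :
    ∃ e, ∀ n, e ≤ n → ∀ y : Γ((itw P.L (n + 1)).obj F, ⊤),
      ∃ x : Fin r → Γ((itw P.L n).obj F, ⊤),
        y = ∑ k, (mulSec (InvX.one (P.s k)) ((itw P.L n).obj F)).app ⊤ (x k) := by
  classical
  haveI : CompactSpace X := AmpleVan.compactSpace_of_proper (A := A)
  haveI : IsLocallyNoetherian X := LocallyOfFiniteType.isLocallyNoetherian (X ↘ Spec (CommRingCat.of A))
  haveI : IsNoetherian X := { __ := ‹IsLocallyNoetherian X›, __ := ‹CompactSpace X› }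
  obtain ⟨e, he⟩ := FFun.Gen.exists_genHH (A := A) (fun M hM p => Groth.Agent.S0002.result A X M hM p) 0
    (twSys P.hL (fun k => InvX.one (P.s k)) F) (fun n => isCoh_itw P.hL hF n) 0 (genFrom_twSys P.hL P.s P.hcov F)
  refine ⟨e, fun n hn y => ?_⟩
  let E := fun M : X.Modules => Sheaf.H.equiv₀ (Coh.toAb M) isTerminalTop
  have hz : (E ((itw P.L (n + 1)).obj F)).symm y ∈
      ⨆ i, LinearMap.range (mapLin A ((twSys P.hL (fun k => InvX.one (P.s k)) F).t n i) 0) := by
    rw [he n hn]
    exact Submodule.mem_top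
  obtain ⟨z, hz, hsum⟩ := (Submodule.mem_iSup_iff_exists_finsupp _ _).1 hz
  choose w hw using fun k => LinearMap.mem_range.1 (hz k)
  refine ⟨fun k => E ((itw P.L n).obj F) (w k), ?_⟩
  rw [Finsupp.sum_fintype _ _ fun _ => rfl] at hsum
  refine ((E _).apply_symm_apply y).symm.trans ?_
  rw [← hsum, map_sum]
  refine Finset.sum_congr rfl fun k _ => ?_
  rw [← hw k]
  exact (Sheaf.H.equiv₀_naturality isTerminalTop
    ((QCoh.toAbFunctor X).map (mulSec (InvX.one (P.s k)) ((itw P.L n).obj F))) (w k)).symm

theorem genFrom_gsys (e d : ℕ) (h : ∀ n, e + d ≤ n → ∀ y : Γ((itw P.L (n + 1)).obj F, ⊤),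
      ∃ x : Fin r → Γ((itw P.L n).obj F, ⊤),
        y = ∑ k, (mulSec (InvX.one (P.s k)) ((itw P.L n).obj F)).app ⊤ (x k)) :
    (gsys P F A e).GenFrom d := fun n hn => by
  refine eq_top_iff.2 fun y _ => ?_
  obtain ⟨x, hx⟩ := h (e + n) (by omega) y
  rw [hx]
  exact Submodule.sum_mem _ fun k _ => Submodule.mem_iSup_of_mem k ⟨x k, rfl⟩

end Groth.Agent.HQ47
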